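import Cfsg.Agent.H6.Inv
import Cfsg.Agent.H6.U62.Main

set_option autoImplicit false
set_option maxRecDepth 100000
set_option Elab.async false

namespace Cfsg.H6.U62I

def sg : List (List ℕ) := [[], [nat_lit 1], [nat_lit 3], [nat_lit 5], [nat_lit 6], [nat_lit 8], [nat_lit 2, nat_lit 6, nat_lit 3, nat_lit 2, nat_lit 1, nat_lit 2, nat_lit 3, nat_lit 6, nat_lit 2], [nat_lit 4, nat_lit 8, nat_lit 5, nat_lit 4, nat_lit 3, nat_lit 4, nat_lit 5, nat_lit 8, nat_lit 4], [nat_lit 4, nat_lit 8, nat_lit 2, nat_lit 6, nat_lit 5, nat_lit 4, nat_lit 3, nat_lit 2, nat_lit 1, nat_lit 2, nat_lit 3, nat_lit 4, nat_lit 5, nat_lit 6, nat_lit 2, nat_lit 8, nat_lit 4], [nat_lit 7, nat_lit 8, nat_lit 6, nat_lit 7, nat_lit 4, nat_lit 3, nat_lit 2, nat_lit 6, nat_lit 5, nat_lit 4, nat_lit 3, nat_lit 2, nat_lit 1, nat_lit 2, nat_lit 3, nat_lit 4, nat_lit 5, nat_lit 6, nat_lit 2, nat_lit 3, nat_lit 4, nat_lit 7, nat_lit 6, nat_lit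 8, nat_lit 7], [nat_lit 2, nat_lit 6, nat_lit 1, nat_lit 2], [nat_lit 4, nat_lit 5, nat_lit 3, nat_lit 4], [nat_lit 2, nat_lit 3, nat_lit 1, nat_lit 4, nat_lit 8, nat_lit 5, nat_lit 4, nat_lit 3, nat_lit 1, nat_lit 2], [nat_lit 7, nat_lit 8, nat_lit 6, nat_lit 7, nat_lit 2, nat_lit 4, nat_lit 8, nat_lit 5, nat_lit 4, nat_lit 3, nat_lit 1, nat_lit 2, nat_lit 7, nat_lit 8, nat_lit 6, nat_lit 7, nat_lit 2, nat_lit 3, nat_lit 1, nat_lit 4, nat_lit 8, nat_lit 5, nat_lit 4, nat_lit 2, nat_lit 7, nat_lit 8, nat_lit 6, nat_lit 7], [nat_lit 7, nat_lit 8, nat_lit 6, nat_lit 7], [nat_lit 4, nat_lit 5, nat_lit 3, nat_lit 4], [nat_lit 4, nat_lit 8, nat_lit 3, nat_lit 4], [nat_lit 2, nat_lit 3, nat_lit 1, nat_lit 2]]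

def A : List (List ℕ) := [[nat_lit 0, nat_lit 0, nat_lit 0, nat_lit 0, nat_lit 0, nat_lit 0, nat_lit 0, nat_lit 0, nat_lit 0], [nat_lit 1, nat_lit 2, nat_lit 4, nat_lit 8, nat_lit 16, nat_lit 32, nat_lit 64, nat_lit 128, nat_lit 256], [nat_lit 1, nat_lit 2, nat_lit 4, nat_lit 8, nat_lit 16, nat_lit 32, nat_lit 64, nat_lit 128, nat_lit 256], [nat_lit 1, nat_lit 2, nat_lit 4, nat_lit 8, nat_lit 16, nat_lit 32, nat_lit 64, nat_lit 128, nat_lit 256], [nat_lit 1, nat_lit 2, nat_lit 4, nat_lit 8, nat_lit 16, nat_lit 32, nat_lit 64, nat_lit 128, nat_lit 256], [nat_lit 1, nat_lit 2, nat_lit 4, nat_lit 8, nat_lit 16, nat_lit 32, nat_lit 64, nat_lit 128, nat_lit 256], [nat_lit 1, nat_lit 2, nat_lit 4, nat_lit 8, nat_lit 16, nat_lit 32, nat_lit 64, nat_lit 128, nat_lit 256], [nat_lit 1, nat_lit 2, nat_lit 4, nat_lit 8, nat_lit 16, nat_lit 32, nat_lit 64, nat_lit 128, nat_lit 256], [nat_lit 1, nat_lit 2, nat_lit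 4, nat_lit 8, nat_lit 16, nat_lit 32, nat_lit 64, nat_lit 128, nat_lit 256], [nat_lit 1, nat_lit 2, nat_lit 4, nat_lit 8, nat_lit 16, nat_lit 32, nat_lit 64, nat_lit 128, nat_lit 256], [nat_lit 8, nat_lit 32, nat_lit 4, nat_lit 1, nat_lit 16, nat_lit 2, nat_lit 128, nat_lit 64, nat_lit 468], [nat_lit 1, nat_lit 4, nat_lit 2, nat_lit 8, nat_lit 64, nat_lit 205, nat_lit 16, nat_lit 59, nat_lit 442], [nat_lit 181, nat_lit 2, nat_lit 16, nat_lit 94, nat_lit 4, nat_lit 32, nat_lit 64, nat_lit 128, nat_lit 468], [nat_lit 1, nat_lit 423, nat_lit 331, nat_lit 8, nat_lit 256, nat_lit 467, nat_lit 442, nat_lit 300, nat_lit 16], [nat_lit 1, nat_lit 2, nat_lit 4, nat_lit 16, nat_lit 8, nat_lit 59, nat_lit 94, nat_lit 331, nat_lit 205], [nat_lit 1, nat_lit 4, nat_lit 2, nat_lit 8, nat_lit 64, nat_lit 205, nat_lit 16, nat_lit 59, nat_lit 442], [nat_lit 1, nat_lit 16, nat_lit 64, nat_lit 8, nat_lit 2, nat_lit 59, nat_lit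 4, nat_lit 205, nat_lit 423], [nat_lit 2, nat_lit 1, nat_lit 4, nat_lit 32, nat_lit 16, nat_lit 8, nat_lit 181, nat_lit 94, nat_lit 300]]

def M : List ICos := [([], [nat_lit 0, nat_lit 0, nat_lit 0, nat_lit 0, nat_lit 0, nat_lit 0, nat_lit 0, nat_lit 0, nat_lit 0, nat_lit 0, nat_lit 1, nat_lit 2, nat_lit 3, nat_lit 4], [nat_lit 0, nat_lit 0, nat_lit 0, nat_lit 0], [], 0, 0),
  ([nat_lit 10], [nat_lit 0, nat_lit 0, nat_lit 0, nat_lit 0, nat_lit 0, nat_lit 0, nat_lit 0, nat_lit 0, nat_lit 0, nat_lit 0, nat_lit 0, nat_lit 5, nat_lit 6, nat_lit 7], [nat_lit 0, nat_lit 0, nat_lit 0, nat_lit 0], [], 0, 1),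
  ([nat_lit 11], [nat_lit 0, nat_lit 0, nat_lit 0, nat_lit 0, nat_lit 0, nat_lit 0, nat_lit 0, nat_lit 0, nat_lit 0, nat_lit 0, nat_lit 8, nat_lit 0, nat_lit 9, nat_lit 10], [nat_lit 0, nat_lit 0, nat_lit 0, nat_lit 0], [nat_lit 10, nat_lit 17, nat_lit 11, nat_lit 14, nat_lit 17, nat_lit 14], 0, 1),
  ([nat_lit 12], [nat_lit 0, nat_lit 0, nat_lit 0, nat_lit 0, nat_lit 0, nat_lit 0, nat_lit 0, nat_lit 0, nat_lit 0, nat_lit 0, nat_lit 6, nat_lit 11, nat_lit 0, nat_lit 12], [nat_lit 0, nat_lit 0, nat_lit 0, nat_lit 0], [nat_lit 14, nat_lit 16, nat_lit 17, nat_lit 11, nat_lit 16, nat_lit 14], 0, 1),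
  ([nat_lit 13], [nat_lit 0, nat_lit 0, nat_lit 0, nat_lit 0, nat_lit 0, nat_lit 0, nat_lit 0, nat_lit 0, nat_lit 0, nat_lit 0, nat_lit 13, nat_lit 10, nat_lit 14, nat_lit 0], [nat_lit 0, nat_lit 0, nat_lit 0, nat_lit 0], [nat_lit 14, nat_lit 11, nat_lit 14, nat_lit 17, nat_lit 11], 0, 1),
  ([nat_lit 10, nat_lit 11], [nat_lit 0, nat_lit 0, nat_lit 0, nat_lit 0, nat_lit 0, nat_lit 0, nat_lit 0, nat_lit 0, nat_lit 0, nat_lit 0, nat_lit 15, nat_lit 1, nat_lit 16, nat_lit 17], [nat_lit 0, nat_lit 0, nat_lit 0, nat_lit 0], [], 0, 0),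
  ([nat_lit 10, nat_lit 12], [nat_lit 0, nat_lit 0, nat_lit 0, nat_lit 0, nat_lit 0, nat_lit 0, nat_lit 0, nat_lit 0, nat_lit 0, nat_lit 0, nat_lit 3, nat_lit 18, nat_lit 1, nat_lit 19], [nat_lit 0, nat_lit 0, nat_lit 0, nat_lit 0], [nat_lit 14, nat_lit 10, nat_lit 11, nat_lit 14, nat_lit 16, nat_lit 14], 0, 1),
  ([nat_lit 10, nat_lit 13], [nat_lit 0, nat_lit 0, nat_lit 0, nat_lit 0, nat_lit 0, nat_lit 0, nat_lit 0, nat_lit 0, nat_lit 0, nat_lit 0, nat_lit 20, nat_lit 17, nat_lit 21, nat_lit 1], [nat_lit 0, nat_lit 0, nat_lit 0, nat_lit 0], [], 0, 0),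
  ([nat_lit 11, nat_lit 10], [nat_lit 0, nat_lit 0, nat_lit 0, nat_lit 0, nat_lit 0, nat_lit 0, nat_lit 0, nat_lit 0, nat_lit 0, nat_lit 0, nat_lit 2, nat_lit 22, nat_lit 23, nat_lit 24], [nat_lit 0, nat_lit 0, nat_lit 0, nat_lit 0], [], 0, 0),
  ([nat_lit 11, nat_lit 12], [nat_lit 0, nat_lit 0, nat_lit 0, nat_lit 0, nat_lit 0, nat_lit 0, nat_lit 0, nat_lit 0, nat_lit 0, nat_lit 0, nat_lit 23, nat_lit 25, nat_lit 2, nat_lit 26], [nat_lit 0, nat_lit 0, nat_lit 0, nat_lit 0], [], 0, 0),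
  ([nat_lit 11, nat_lit 13], [nat_lit 0, nat_lit 0, nat_lit 0, nat_lit 0, nat_lit 0, nat_lit 0, nat_lit 0, nat_lit 0, nat_lit 0, nat_lit 0, nat_lit 27, nat_lit 4, nat_lit 28, nat_lit 2], [nat_lit 0, nat_lit 0, nat_lit 0, nat_lit 0], [nat_lit 14, nat_lit 17, nat_lit 14, nat_lit 11, nat_lit 14], 0, 1),
  ([nat_lit 12, nat_lit 11], [nat_lit 0, nat_lit 0, nat_lit 0, nat_lit 0, nat_lit 0, nat_lit 0, nat_lit 0, nat_lit 0, nat_lit 0, nat_lit 0, nat_lit 29, nat_lit 3, nat_lit 30, nat_lit 31], [nat_lit 0, nat_lit 0, nat_lit 0, nat_lit 0], [], 0, 0),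
  ([nat_lit 12, nat_lit 13], [nat_lit 0, nat_lit 0, nat_lit 0, nat_lit 0, nat_lit 0, nat_lit 0, nat_lit 0, nat_lit 0, nat_lit 0, nat_lit 0, nat_lit 32, nat_lit 31, nat_lit 33, nat_lit 3], [nat_lit 0, nat_lit 0, nat_lit 0, nat_lit 0], [], 0, 0),
  ([nat_lit 13, nat_lit 10], [nat_lit 0, nat_lit 0, nat_lit 0, nat_lit 0, nat_lit 0, nat_lit 0, nat_lit 0, nat_lit 0, nat_lit 0, nat_lit 0, nat_lit 4, nat_lit 34, nat_lit 35, nat_lit 36], [nat_lit 0, nat_lit 0, nat_lit 0, nat_lit 0], [], 0, 0),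
  ([nat_lit 13, nat_lit 12], [nat_lit 0, nat_lit 0, nat_lit 0, nat_lit 0, nat_lit 0, nat_lit 0, nat_lit 0, nat_lit 0, nat_lit 0, nat_lit 0, nat_lit 35, nat_lit 37, nat_lit 4, nat_lit 38], [nat_lit 0, nat_lit 0, nat_lit 0, nat_lit 0], [], 0, 0),
  ([nat_lit 10, nat_lit 11, nat_lit 10], [nat_lit 0, nat_lit 0, nat_lit 0, nat_lit 0, nat_lit 0, nat_lit 0, nat_lit 0, nat_lit 0, nat_lit 0, nat_lit 0, nat_lit 5, nat_lit 39, nat_lit 40, nat_lit 41], [nat_lit 0, nat_lit 0, nat_lit 0, nat_lit 0], [nat_lit 17, nat_lit 11, nat_lit 14, nat_lit 17, nat_lit 14], 0, 1),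
  ([nat_lit 10, nat_lit 11, nat_lit 12], [nat_lit 0, nat_lit 0, nat_lit 0, nat_lit 0, nat_lit 0, nat_lit 0, nat_lit 0, nat_lit 0, nat_lit 0, nat_lit 0, nat_lit 40, nat_lit 42, nat_lit 5, nat_lit 43], [nat_lit 0, nat_lit 0, nat_lit 0, nat_lit 0], [], 0, 0),
  ([nat_lit 10, nat_lit 11, nat_lit 13], [nat_lit 0, nat_lit 0, nat_lit 0, nat_lit 0, nat_lit 0, nat_lit 0, nat_lit 0, nat_lit 0, nat_lit 0, nat_lit 0, nat_lit 44, nat_lit 7, nat_lit 45, nat_lit 5], [nat_lit 0, nat_lit 0, nat_lit 0, nat_lit 0], [], 0, 0),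
  ([nat_lit 10, nat_lit 12, nat_lit 11], [nat_lit 0, nat_lit 0, nat_lit 0, nat_lit 0, nat_lit 0, nat_lit 0, nat_lit 0, nat_lit 0, nat_lit 0, nat_lit 0, nat_lit 46, nat_lit 6, nat_lit 47, nat_lit 48], [nat_lit 0, nat_lit 0, nat_lit 0, nat_lit 0], [], 0, 0),
  ([nat_lit 10, nat_lit 12, nat_lit 13], [nat_lit 0, nat_lit 0, nat_lit 0, nat_lit 0, nat_lit 0, nat_lit 0, nat_lit 0, nat_lit 0, nat_lit 0, nat_lit 0, nat_lit 49, nat_lit 48, nat_lit 50, nat_lit 6], [nat_lit 0, nat_lit 0, nat_lit 0, nat_lit 0], [], 0, 0),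
  ([nat_lit 10, nat_lit 13, nat_lit 10], [nat_lit 0, nat_lit 0, nat_lit 0, nat_lit 0, nat_lit 0, nat_lit 0, nat_lit 0, nat_lit 0, nat_lit 0, nat_lit 0, nat_lit 7, nat_lit 51, nat_lit 52, nat_lit 53], [nat_lit 0, nat_lit 0, nat_lit 0, nat_lit 0], [nat_lit 10, nat_lit 14, nat_lit 11, nat_lit 14, nat_lit 17, nat_lit 11], 0, 1),
  ([nat_lit 10, nat_lit 13, nat_lit 12], [nat_lit 0, nat_lit 0, nat_lit 0, nat_lit 0, nat_lit 0, nat_lit 0, nat_lit 0, nat_lit 0, nat_lit 0, nat_lit 0, nat_lit 52, nat_lit 54, nat_lit 7, nat_lit 55], [nat_lit 0, nat_lit 0, nat_lit 0, nat_lit 0], [], 0, 0),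
  ([nat_lit 11, nat_lit 10, nat_lit 11], [nat_lit 0, nat_lit 0, nat_lit 0, nat_lit 0, nat_lit 0, nat_lit 0, nat_lit 0, nat_lit 0, nat_lit 0, nat_lit 0, nat_lit 39, nat_lit 8, nat_lit 55, nat_lit 50], [nat_lit 0, nat_lit 0, nat_lit 0, nat_lit 0], [nat_lit 11], 0, 1),
  ([nat_lit 11, nat_lit 10, nat_lit 12], [nat_lit 0, nat_lit 0, nat_lit 0, nat_lit 0, nat_lit 0, nat_lit 0, nat_lit 0, nat_lit 0, nat_lit 0, nat_lit 0, nat_lit 9, nat_lit 56, nat_lit 8, nat_lit 45], [nat_lit 0, nat_lit 0, nat_lit 0, nat_lit 0], [], 0, 0),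
  ([nat_lit 11, nat_lit 10, nat_lit 13], [nat_lit 0, nat_lit 0, nat_lit 0, nat_lit 0, nat_lit 0, nat_lit 0, nat_lit 0, nat_lit 0, nat_lit 0, nat_lit 0, nat_lit 51, nat_lit 50, nat_lit 43, nat_lit 8], [nat_lit 0, nat_lit 0, nat_lit 0, nat_lit 0], [], 0, 0),
  ([nat_lit 11, nat_lit 12, nat_lit 11], [nat_lit 0, nat_lit 0, nat_lit 0, nat_lit 0, nat_lit 0, nat_lit 0, nat_lit 0, nat_lit 0, nat_lit 0, nat_lit 0, nat_lit 42, nat_lit 9, nat_lit 57, nat_lit 52], [nat_lit 0, nat_lit 0, nat_lit 0, nat_lit 0], [nat_lit 14, nat_lit 10, nat_lit 17, nat_lit 11, nat_lit 10, nat_lit 14], 0, 1),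
  ([nat_lit 11, nat_lit 12, nat_lit 13], [nat_lit 0, nat_lit 0, nat_lit 0, nat_lit 0, nat_lit 0, nat_lit 0, nat_lit 0, nat_lit 0, nat_lit 0, nat_lit 0, nat_lit 48, nat_lit 52, nat_lit 41, nat_lit 9], [nat_lit 0, nat_lit 0, nat_lit 0, nat_lit 0], [], 0, 0),
  ([nat_lit 11, nat_lit 13, nat_lit 10], [nat_lit 0, nat_lit 0, nat_lit 0, nat_lit 0, nat_lit 0, nat_lit 0, nat_lit 0, nat_lit 0, nat_lit 0, nat_lit 0, nat_lit 10, nat_lit 58, nat_lit 54, nat_lit 47], [nat_lit 0, nat_lit 0, nat_lit 0, nat_lit 0], [], 0, 0),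
  ([nat_lit 11, nat_lit 13, nat_lit 12], [nat_lit 0, nat_lit 0, nat_lit 0, nat_lit 0, nat_lit 0, nat_lit 0, nat_lit 0, nat_lit 0, nat_lit 0, nat_lit 0, nat_lit 54, nat_lit 49, nat_lit 10, nat_lit 40], [nat_lit 0, nat_lit 0, nat_lit 0, nat_lit 0], [], 0, 0),
  ([nat_lit 12, nat_lit 11, nat_lit 10], [nat_lit 0, nat_lit 0, nat_lit 0, nat_lit 0, nat_lit 0, nat_lit 0, nat_lit 0, nat_lit 0, nat_lit 0, nat_lit 0, nat_lit 11, nat_lit 55, nat_lit 59, nat_lit 54], [nat_lit 0, nat_lit 0, nat_lit 0, nat_lit 0], [], 0, 0),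
  ([nat_lit 12, nat_lit 11, nat_lit 12], [nat_lit 0, nat_lit 0, nat_lit 0, nat_lit 0, nat_lit 0, nat_lit 0, nat_lit 0, nat_lit 0, nat_lit 0, nat_lit 0, nat_lit 59, nat_lit 57, nat_lit 11, nat_lit 44], [nat_lit 0, nat_lit 0, nat_lit 0, nat_lit 0], [nat_lit 14, nat_lit 16, nat_lit 10, nat_lit 14], 0, 1),
  ([nat_lit 12, nat_lit 11, nat_lit 13], [nat_lit 0, nat_lit 0, nat_lit 0, nat_lit 0, nat_lit 0, nat_lit 0, nat_lit 0, nat_lit 0, nat_lit 0, nat_lit 0, nat_lit 43, nat_lit 12, nat_lit 51, nat_lit 11], [nat_lit 0, nat_lit 0, nat_lit 0, nat_lit 0], [], 0, 0),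
  ([nat_lit 12, nat_lit 13, nat_lit 10], [nat_lit 0, nat_lit 0, nat_lit 0, nat_lit 0, nat_lit 0, nat_lit 0, nat_lit 0, nat_lit 0, nat_lit 0, nat_lit 0, nat_lit 12, nat_lit 45, nat_lit 58, nat_lit 56], [nat_lit 0, nat_lit 0, nat_lit 0, nat_lit 0], [], 0, 0),
  ([nat_lit 12, nat_lit 13, nat_lit 12], [nat_lit 0, nat_lit 0, nat_lit 0, nat_lit 0, nat_lit 0, nat_lit 0, nat_lit 0, nat_lit 0, nat_lit 0, nat_lit 0, nat_lit 58, nat_lit 41, nat_lit 12, nat_lit 39], [nat_lit 0, nat_lit 0, nat_lit 0, nat_lit 0], [nat_lit 12, nat_lit 14, nat_lit 11, nat_lit 14, nat_lit 17, nat_lit 11], 0, 1),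
  ([nat_lit 13, nat_lit 10, nat_lit 11], [nat_lit 0, nat_lit 0, nat_lit 0, nat_lit 0, nat_lit 0, nat_lit 0, nat_lit 0, nat_lit 0, nat_lit 0, nat_lit 0, nat_lit 41, nat_lit 13, nat_lit 48, nat_lit 59], [nat_lit 0, nat_lit 0, nat_lit 0, nat_lit 0], [], 0, 0),
  ([nat_lit 13, nat_lit 10, nat_lit 12], [nat_lit 0, nat_lit 0, nat_lit 0, nat_lit 0, nat_lit 0, nat_lit 0, nat_lit 0, nat_lit 0, nat_lit 0, nat_lit 0, nat_lit 14, nat_lit 43, nat_lit 13, nat_lit 42], [nat_lit 0, nat_lit 0, nat_lit 0, nat_lit 0], [], 0, 0),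
  ([nat_lit 13, nat_lit 10, nat_lit 13], [nat_lit 0, nat_lit 0, nat_lit 0, nat_lit 0, nat_lit 0, nat_lit 0, nat_lit 0, nat_lit 0, nat_lit 0, nat_lit 0, nat_lit 53, nat_lit 59, nat_lit 56, nat_lit 13], [nat_lit 0, nat_lit 0, nat_lit 0, nat_lit 0], [nat_lit 13], 0, 1),
  ([nat_lit 13, nat_lit 12, nat_lit 11], [nat_lit 0, nat_lit 0, nat_lit 0, nat_lit 0, nat_lit 0, nat_lit 0, nat_lit 0, nat_lit 0, nat_lit 0, nat_lit 0, nat_lit 45, nat_lit 14, nat_lit 44, nat_lit 46], [nat_lit 0, nat_lit 0, nat_lit 0, nat_lit 0], [], 0, 0),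
  ([nat_lit 13, nat_lit 12, nat_lit 13], [nat_lit 0, nat_lit 0, nat_lit 0, nat_lit 0, nat_lit 0, nat_lit 0, nat_lit 0, nat_lit 0, nat_lit 0, nat_lit 0, nat_lit 55, nat_lit 46, nat_lit 39, nat_lit 14], [nat_lit 0, nat_lit 0, nat_lit 0, nat_lit 0], [nat_lit 11, nat_lit 14, nat_lit 16, nat_lit 17, nat_lit 11, nat_lit 14, nat_lit 16, nat_lit 14], 0, 1),
  ([nat_lit 10, nat_lit 11, nat_lit 10, nat_lit 11], [nat_lit 0, nat_lit 0, nat_lit 0, nat_lit 0, nat_lit 0, nat_lit 0, nat_lit 0, nat_lit 0, nat_lit 0, nat_lit 0, nat_lit 22, nat_lit 15, nat_lit 38, nat_lit 33], [nat_lit 0, nat_lit 0, nat_lit 0, nat_lit 0], [nat_lit 17, nat_lit 11], 0, 1),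
  ([nat_lit 10, nat_lit 11, nat_lit 10, nat_lit 12], [nat_lit 0, nat_lit 0, nat_lit 0, nat_lit 0, nat_lit 0, nat_lit 0, nat_lit 0, nat_lit 0, nat_lit 0, nat_lit 0, nat_lit 16, nat_lit 60, nat_lit 15, nat_lit 28], [nat_lit 0, nat_lit 0, nat_lit 0, nat_lit 0], [], 0, 0),
  ([nat_lit 10, nat_lit 11, nat_lit 10, nat_lit 13], [nat_lit 0, nat_lit 0, nat_lit 0, nat_lit 0, nat_lit 0, nat_lit 0, nat_lit 0, nat_lit 0, nat_lit 0, nat_lit 0, nat_lit 34, nat_lit 33, nat_lit 26, nat_lit 15], [nat_lit 0, nat_lit 0, nat_lit 0, nat_lit 0], [nat_lit 10, nat_lit 17, nat_lit 11, nat_lit 14, nat_lit 10, nat_lit 11, nat_lit 10, nat_lit 14], 0, 1),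
  ([nat_lit 10, nat_lit 11, nat_lit 12, nat_lit 11], [nat_lit 0, nat_lit 0, nat_lit 0, nat_lit 0, nat_lit 0, nat_lit 0, nat_lit 0, nat_lit 0, nat_lit 0, nat_lit 0, nat_lit 25, nat_lit 16, nat_lit 61, nat_lit 35], [nat_lit 0, nat_lit 0, nat_lit 0, nat_lit 0], [nat_lit 14, nat_lit 10, nat_lit 11, nat_lit 10, nat_lit 17, nat_lit 14], 0, 1),
  ([nat_lit 10, nat_lit 11, nat_lit 12, nat_lit 13], [nat_lit 0, nat_lit 0, nat_lit 0, nat_lit 0, nat_lit 0, nat_lit 0, nat_lit 0, nat_lit 0, nat_lit 0, nat_lit 0, nat_lit 31, nat_lit 35, nat_lit 24, nat_lit 16], [nat_lit 0, nat_lit 0, nat_lit 0, nat_lit 0], [], 0, 0),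
  ([nat_lit 10, nat_lit 11, nat_lit 13, nat_lit 10], [nat_lit 0, nat_lit 0, nat_lit 0, nat_lit 0, nat_lit 0, nat_lit 0, nat_lit 0, nat_lit 0, nat_lit 0, nat_lit 0, nat_lit 17, nat_lit 62, nat_lit 37, nat_lit 30], [nat_lit 0, nat_lit 0, nat_lit 0, nat_lit 0], [nat_lit 10, nat_lit 14, nat_lit 17, nat_lit 14, nat_lit 11, nat_lit 14], 0, 1),
  ([nat_lit 10, nat_lit 11, nat_lit 13, nat_lit 12], [nat_lit 0, nat_lit 0, nat_lit 0, nat_lit 0, nat_lit 0, nat_lit 0, nat_lit 0, nat_lit 0, nat_lit 0, nat_lit 0, nat_lit 37, nat_lit 32, nat_lit 17, nat_lit 23], [nat_lit 0, nat_lit 0, nat_lit 0, nat_lit 0], [], 0, 0),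
  ([nat_lit 10, nat_lit 12, nat_lit 11, nat_lit 10], [nat_lit 0, nat_lit 0, nat_lit 0, nat_lit 0, nat_lit 0, nat_lit 0, nat_lit 0, nat_lit 0, nat_lit 0, nat_lit 0, nat_lit 18, nat_lit 38, nat_lit 63, nat_lit 37], [nat_lit 0, nat_lit 0, nat_lit 0, nat_lit 0], [], 0, 0),
  ([nat_lit 10, nat_lit 12, nat_lit 11, nat_lit 12], [nat_lit 0, nat_lit 0, nat_lit 0, nat_lit 0, nat_lit 0, nat_lit 0, nat_lit 0, nat_lit 0, nat_lit 0, nat_lit 0, nat_lit 63, nat_lit 61, nat_lit 18, nat_lit 27], [nat_lit 0, nat_lit 0, nat_lit 0, nat_lit 0], [], 0, 0),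
  ([nat_lit 10, nat_lit 12, nat_lit 11, nat_lit 13], [nat_lit 0, nat_lit 0, nat_lit 0, nat_lit 0, nat_lit 0, nat_lit 0, nat_lit 0, nat_lit 0, nat_lit 0, nat_lit 0, nat_lit 26, nat_lit 19, nat_lit 34, nat_lit 18], [nat_lit 0, nat_lit 0, nat_lit 0, nat_lit 0], [], 0, 0),
  ([nat_lit 10, nat_lit 12, nat_lit 13, nat_lit 10], [nat_lit 0, nat_lit 0, nat_lit 0, nat_lit 0, nat_lit 0, nat_lit 0, nat_lit 0, nat_lit 0, nat_lit 0, nat_lit 0, nat_lit 19, nat_lit 28, nat_lit 62, nat_lit 60], [nat_lit 0, nat_lit 0, nat_lit 0, nat_lit 0], [], 0, 0),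
  ([nat_lit 10, nat_lit 12, nat_lit 13, nat_lit 12], [nat_lit 0, nat_lit 0, nat_lit 0, nat_lit 0, nat_lit 0, nat_lit 0, nat_lit 0, nat_lit 0, nat_lit 0, nat_lit 0, nat_lit 62, nat_lit 24, nat_lit 19, nat_lit 22], [nat_lit 0, nat_lit 0, nat_lit 0, nat_lit 0], [], 0, 0),
  ([nat_lit 10, nat_lit 13, nat_lit 10, nat_lit 11], [nat_lit 0, nat_lit 0, nat_lit 0, nat_lit 0, nat_lit 0, nat_lit 0, nat_lit 0, nat_lit 0, nat_lit 0, nat_lit 0, nat_lit 24, nat_lit 20, nat_lit 31, nat_lit 63], [nat_lit 0, nat_lit 0, nat_lit 0, nat_lit 0], [nat_lit 17, nat_lit 11, nat_lit 14, nat_lit 10, nat_lit 11, nat_lit 10, nat_lit 14], 0, 1),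
  ([nat_lit 10, nat_lit 13, nat_lit 10, nat_lit 12], [nat_lit 0, nat_lit 0, nat_lit 0, nat_lit 0, nat_lit 0, nat_lit 0, nat_lit 0, nat_lit 0, nat_lit 0, nat_lit 0, nat_lit 21, nat_lit 26, nat_lit 20, nat_lit 25], [nat_lit 0, nat_lit 0, nat_lit 0, nat_lit 0], [], 0, 0),
  ([nat_lit 10, nat_lit 13, nat_lit 10, nat_lit 13], [nat_lit 0, nat_lit 0, nat_lit 0, nat_lit 0, nat_lit 0, nat_lit 0, nat_lit 0, nat_lit 0, nat_lit 0, nat_lit 0, nat_lit 36, nat_lit 63, nat_lit 60, nat_lit 20], [nat_lit 0, nat_lit 0, nat_lit 0, nat_lit 0], [nat_lit 14, nat_lit 11, nat_lit 16, nat_lit 17, nat_lit 11, nat_lit 10, nat_lit 14], 0, 1),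
  ([nat_lit 10, nat_lit 13, nat_lit 12, nat_lit 11], [nat_lit 0, nat_lit 0, nat_lit 0, nat_lit 0, nat_lit 0, nat_lit 0, nat_lit 0, nat_lit 0, nat_lit 0, nat_lit 0, nat_lit 28, nat_lit 21, nat_lit 27, nat_lit 29], [nat_lit 0, nat_lit 0, nat_lit 0, nat_lit 0], [], 0, 0),
  ([nat_lit 10, nat_lit 13, nat_lit 12, nat_lit 13], [nat_lit 0, nat_lit 0, nat_lit 0, nat_lit 0, nat_lit 0, nat_lit 0, nat_lit 0, nat_lit 0, nat_lit 0, nat_lit 0, nat_lit 38, nat_lit 29, nat_lit 22, nat_lit 21], [nat_lit 0, nat_lit 0, nat_lit 0, nat_lit 0], [nat_lit 11, nat_lit 14, nat_lit 10, nat_lit 11, nat_lit 10, nat_lit 17, nat_lit 14], 0, 1),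
  ([nat_lit 11, nat_lit 10, nat_lit 12, nat_lit 11], [nat_lit 0, nat_lit 0, nat_lit 0, nat_lit 0, nat_lit 0, nat_lit 0, nat_lit 0, nat_lit 0, nat_lit 0, nat_lit 0, nat_lit 60, nat_lit 23, nat_lit 36, nat_lit 32], [nat_lit 0, nat_lit 0, nat_lit 0, nat_lit 0], [nat_lit 11, nat_lit 14, nat_lit 10, nat_lit 11, nat_lit 14, nat_lit 16, nat_lit 14], 0, 1),
  ([nat_lit 11, nat_lit 12, nat_lit 11, nat_lit 12], [nat_lit 0, nat_lit 0, nat_lit 0, nat_lit 0, nat_lit 0, nat_lit 0, nat_lit 0, nat_lit 0, nat_lit 0, nat_lit 0, nat_lit 61, nat_lit 30, nat_lit 25, nat_lit 62], [nat_lit 0, nat_lit 0, nat_lit 0, nat_lit 0], [nat_lit 14, nat_lit 10, nat_lit 11, nat_lit 16, nat_lit 14], 0, 1),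
  ([nat_lit 11, nat_lit 13, nat_lit 10, nat_lit 11], [nat_lit 0, nat_lit 0, nat_lit 0, nat_lit 0, nat_lit 0, nat_lit 0, nat_lit 0, nat_lit 0, nat_lit 0, nat_lit 0, nat_lit 33, nat_lit 27, nat_lit 32, nat_lit 61], [nat_lit 0, nat_lit 0, nat_lit 0, nat_lit 0], [], 0, 0),
  ([nat_lit 12, nat_lit 11, nat_lit 10, nat_lit 12], [nat_lit 0, nat_lit 0, nat_lit 0, nat_lit 0, nat_lit 0, nat_lit 0, nat_lit 0, nat_lit 0, nat_lit 0, nat_lit 0, nat_lit 30, nat_lit 36, nat_lit 29, nat_lit 34], [nat_lit 0, nat_lit 0, nat_lit 0, nat_lit 0], [], 0, 0),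
  ([nat_lit 10, nat_lit 11, nat_lit 10, nat_lit 12, nat_lit 11], [nat_lit 0, nat_lit 0, nat_lit 0, nat_lit 0, nat_lit 0, nat_lit 0, nat_lit 0, nat_lit 0, nat_lit 0, nat_lit 0, nat_lit 56, nat_lit 40, nat_lit 53, nat_lit 49], [nat_lit 0, nat_lit 0, nat_lit 0, nat_lit 0], [nat_lit 14, nat_lit 16, nat_lit 17, nat_lit 11, nat_lit 14, nat_lit 16, nat_lit 14], 0, 1),
  ([nat_lit 10, nat_lit 11, nat_lit 12, nat_lit 11, nat_lit 12], [nat_lit 0, nat_lit 0, nat_lit 0, nat_lit 0, nat_lit 0, nat_lit 0, nat_lit 0, nat_lit 0, nat_lit 0, nat_lit 0, nat_lit 57, nat_lit 47, nat_lit 42, nat_lit 58], [nat_lit 0, nat_lit 0, nat_lit 0, nat_lit 0], [nat_lit 17, nat_lit 14, nat_lit 10, nat_lit 11, nat_lit 14, nat_lit 16, nat_lit 14], 0, 1),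
  ([nat_lit 10, nat_lit 11, nat_lit 13, nat_lit 10, nat_lit 11], [nat_lit 0, nat_lit 0, nat_lit 0, nat_lit 0, nat_lit 0, nat_lit 0, nat_lit 0, nat_lit 0, nat_lit 0, nat_lit 0, nat_lit 50, nat_lit 44, nat_lit 49, nat_lit 57], [nat_lit 0, nat_lit 0, nat_lit 0, nat_lit 0], [nat_lit 14, nat_lit 11, nat_lit 10, nat_lit 14, nat_lit 10, nat_lit 16, nat_lit 10, nat_lit 14], 0, 1),
  ([nat_lit 10, nat_lit 12, nat_lit 11, nat_lit 10, nat_lit 12], [nat_lit 0, nat_lit 0, nat_lit 0, nat_lit 0, nat_lit 0, nat_lit 0, nat_lit 0, nat_lit 0, nat_lit 0, nat_lit 0, nat_lit 47, nat_lit 53, nat_lit 46, nat_lit 51], [nat_lit 0, nat_lit 0, nat_lit 0, nat_lit 0], [nat_lit 10, nat_lit 14, nat_lit 16, nat_lit 10, nat_lit 14], 0, 1)]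

noncomputable def Cs : List ICls := [([], 0, [([nat_lit 10], 0), ([nat_lit 11], 0), ([nat_lit 14], 0)], [(0, [], []), (1, [], [1]), (3, [nat_lit 2, nat_lit 3, nat_lit 1, nat_lit 2], [1,3]), (11, [nat_lit 2, nat_lit 6, nat_lit 1, nat_lit 2, nat_lit 4, nat_lit 2, nat_lit 6, nat_lit 3, nat_lit 2, nat_lit 1, nat_lit 2, nat_lit 3, nat_lit 6, nat_lit 2, nat_lit 3, nat_lit 4], [1,3,6])], unp 508 (nat_lit 0x1bc020001cf01000086020001c90100010601000182010000e90000013902000139000001e3010000df0100003d0200003d010001b3020001f50000006802000068000000dc010000370100003700000016020001bf02000099000000ce010001fc0000011d00000184010001f0000001b40000013f0200013f0000013e0100013e0000002d000000c30200006b0100014200000058020000fd000000ac00000053010001640000001f000001da0000010901000155020001550000011f010000d5010000d5000000f40100003402000034000001ab020001ab0000015c01000072010000e5000001ff020001f1010001f100000162020001900000011c010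000d8010000d8000001b10200014c00000138010000e80200003c0000002e0200002e0100017e00000076020000fb0100013402000196010001950100007902000079000001570200012a020000910200009100000133020001330000006c0200006c000000fc010000b800000077010000a3010000a3000001650100004f0100004f000001dd010001dd000000a6000001e9010001e900000118020000d60000008f0100014101000141000000b20000012b020001f70100011302000113010000f9000001ea02000176000001c1010001c10000010d0200010d010001a001000129000000ee020000ee0100002702000027000000b6020000b60000013502000135010001880200018800000144020001440000009401000094000001680000017b0100007a0100007a00000132010000d7010000d7000001f6020000be010000be00000173020001730100015a0000004902000049010001c5020000f0010000f0000001f2020001f20100006d0100006d00000092020000af0000017a0200017a010001ec020001ec000001370200013700000121010001210000018f010001d9020001d9000001bd020001bd000000e7020000e7000000ca010000b0010000b0000001ca000001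89010001a8010001a8000001470200016f0100016f0000007f020001e60000011a0200011a0100016e0200016e000000890200008900000192010001260200012600000070020000700000016702000167000001560100013001000130000000f702000191000001b9000001d801000107010000e1010000e1000001780200019d0100019d000001ad020001ad010000bf020000bf000001e5020001e50000016901000032010001a4000001710100009d0100016001000160000000fe020000a1010001c00100010501000105000001f80000012f0200012f0100019b0200019b000000b90100015f0100015f000000310200014e0100014e0000004c0100005d000000a8020000a80100004a00000114000000c8020001fb020001fb000001cc0100005b0000008c0200008c010000850200008500000043020000430000001c010000c102000023010001110100011100000045020000450000003801000015010000150000002a0100002a000000c402000013010000130000000d02000029020000290100000b0200000b0100000b0000002400000102010001490100003f020000ed0000002c0200002c000001f40000006901000082020000820100008e0200013b020000bc0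0000153010000e0010000e0000001f3010000c7010001d1010000980000011e0100008b000001e202000060000000de010001fd0100003502000035010000f50200013a0200013a0100016c0200016c0000017f0100019a0200019a0100012e0200012e000000c902000112020001120100016600000131020001310100010c000001860100016a0100007301000073000000d30200006201000062000000ae010000960000015802000158010000dd010001540100010b0200010b0000007b000001800100013d0200013d000000b400000124020001240000001e000000a5010001e70000016d0100005f000000110200007d000001d6010000b7020000b7000001a5020001a50000017901000022010001e4000001610100004b0100004b000001ce000001b0010001b0000001770000006e0200006e01000067020000670000014502000145000001080200010800000140000001b70100009001000090000001940000013c010000e30000017c020001750100004e0100004e0000015b0100015b0000004102000041010000780200007800000120000000b10100014f0100014f000000390200015e0100015e0000004d0200004d0100019f010001b5020000a7020000a70000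00da010001a9010001b2010001aa010001aa00000143020001c3010001c30000012d0200012d0100014a0000004802000048010000880200008800000095010000f60200005a00000084020000840100008d0200008d000001990200010f010000f1010000f10000018d010001ac020001ac010001a6000001af020001af010001db020001db0000008102000081000000330100005c000000a0010000440200004400000030010001c8010001f900000127020001270100019302000193000001bb020001bb000001dc0100003a0100003a0000004202000042000000120100001200000115000001fa020001fa000001c4010001010100010100000021020000140100000a020000c00200011001000110000000cc020000cc0100000c0200000c0100002b010000c5020000c50000000500000028020000280100000301000003000001000000012c0200012c000000cd02000002010001a70000017d01000020010000200000014b0100014b0000003b0200005e0000008002000080010000400200004000000010010000080200000100)),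
  ([nat_lit 10], 0, [([nat_lit 1], 9), ([nat_lit 2], 34), ([nat_lit 7], 192), ([nat_lit 9], 212)], [(0, [nat_lit 6, nat_lit 1, nat_lit 2, nat_lit 7, nat_lit 6, nat_lit 8, nat_lit 7, nat_lit 4, nat_lit 8, nat_lit 3, nat_lit 4], [1,3]), (4, [nat_lit 4, nat_lit 5, nat_lit 3, nat_lit 4, nat_lit 2, nat_lit 3, nat_lit 1, nat_lit 6, nat_lit 3, nat_lit 2, nat_lit 1, nat_lit 2, nat_lit 3, nat_lit 6, nat_lit 2, nat_lit 3, nat_lit 4, nat_lit 7, nat_lit 2, nat_lit 6, nat_lit 3, nat_lit 2, nat_lit 1, nat_lit 2, nat_lit 3, nat_lit 6, nat_lit 2, nat_lit 6, nat_lit 7], [1,3,6])], unp 30 (nat_lit 0xef030000e6030000cd0300002f0300002f020000c403000026030000260200000d0300000d0200000d01000004030000040200000401000004000000eb030000e2030000c90300002b0300002b020000c003000022030000220200000903000009020000090100000003000000020000000100000000))]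

def Reps : List (List ℕ) := [[], [1], [1,3], [1,3,6]]

noncomputable def chk : List ℕ → Bool := fixB U62.img 9 U62.bs

end Cfsg.H6.U62I
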